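import Groth.Agent.NApproxLib.ProperModel
import Groth.Agent.PicLimLib.Descend
import Groth.Agent.AmpleEmb.SpreadAmple
import Groth.Agent.AmpleLib.Descent
import Groth.Agent.S9223

/-!
# Ampleness on a fibre spreads to a neighbourhood, arbitrary base

For `f : X ⟶ Y` proper and `L` invertible, ampleness of `L` on one fibre gives ampleness over a neighbourhood.
-/

set_option autoImplicit false
set_option backward.isDefEq.respectTransparency false
set_option linter.style.haveILetI false

universe u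

open CategoryTheory CategoryTheory.Limits AlgebraicGeometry TopologicalSpace

noncomputable section

namespace Groth.Agent.AmpleFibLib

open Groth.Agent.AmpleLib Groth.Agent.ParaFLib Groth.Agent.PullbackMod Groth.Agent.DCohLib

section diag

variable {I : Type u} [SmallCategory I] {DX DS : I ⥤ Scheme.{u}} (φ : DX ⟶ DS)
  {S T : Scheme.{u}} (pS : (Functor.const I).obj S ⟶ DS) (t : T ⟶ S)

theorem pS_w {i j : I} (a : i ⟶ j) : pS.app i ≫ DS.map a = pS.app j :=
  (pS.naturality a).symm.trans (Category.id_comp _)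

/-- The base changes of the members of a system of morphisms to a scheme over the limit of the bases. -/
def fibDiag : I ⥤ Scheme.{u} where
  obj i := pullback (φ.app i) (t ≫ pS.app i)
  map {i j} a := pullback.map _ _ _ _ (DX.map a) (𝟙 T) (DS.map a) (φ.naturality a).symm
    (by rw [Category.id_comp, Category.assoc, pS_w])
  map_id i := by apply pullback.hom_ext <;> simp
  map_comp a b := by apply pullback.hom_ext <;> simp

variable {X : Scheme.{u}} (pX : (Functor.const I).obj X ⟶ DX) (f : X ⟶ S)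
  (hcomm : ∀ i, pX.app i ≫ φ.app i = f ≫ pS.app i)

/-- The base change of the limit, as a cone over the base changes. -/
def fibCone : Cone (fibDiag φ pS t) where
  pt := pullback f t
  π :=
    { app := fun i => pullback.map f t (φ.app i) (t ≫ pS.app i) (pX.app i) (𝟙 T) (pS.app i) (hcomm i).symm
        (Category.id_comp _).symm
      naturality := fun i j a => by
        have h : pX.app j = pX.app i ≫ DX.map a := (pS_w pX a).symm
        apply pullback.hom_ext <;> simp [fibDiag, h] }

variable (hX : IsLimit (Cone.mk X pX)) (hS : IsLimit (Cone.mk S pS))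

include hX hS in
/-- Base change commutes with the limit. -/
theorem nonempty_isLimit_fibCone [IsCofiltered I] : Nonempty (IsLimit (fibCone φ pS t pX f hcomm)) := by
  have hsnd : ∀ (s : Cone (fibDiag φ pS t)) (i j : I) (a : i ⟶ j),
      s.π.app j ≫ pullback.snd _ _ = s.π.app i ≫ pullback.snd _ _ := fun s i j a => by
    rw [← s.w a, Category.assoc]
    congr 1
    exact (pullback.lift_snd _ _ _).trans (Category.comp_id _)
  have hsnd' : ∀ (s : Cone (fibDiag φ pS t)) (i j : I),
      s.π.app j ≫ pullback.snd _ _ = s.π.app i ≫ pullback.snd _ _ := fun s i j =>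
    (hsnd s _ _ (IsCofiltered.minToRight i j)).trans (hsnd s _ _ (IsCofiltered.minToLeft i j)).symm
  let i₀ : I := IsCofiltered.nonempty.some
  let cX : Cone (fibDiag φ pS t) → Cone DX := fun s =>
    { pt := s.pt
      π :=
        { app := fun i => s.π.app i ≫ pullback.fst _ _
          naturality := fun i j a => by
            have h1 : (fibDiag φ pS t).map a ≫ pullback.fst (φ.app j) (t ≫ pS.app j) =
                pullback.fst (φ.app i) (t ≫ pS.app i) ≫ DX.map a := pullback.lift_fst _ _ _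
            exact (Category.id_comp _).trans ((congrArg (· ≫ pullback.fst (φ.app j) (t ≫ pS.app j)) (s.w a).symm).trans
              ((Category.assoc _ _ _).trans ((congrArg (s.π.app i ≫ ·) h1).trans (Category.assoc _ _ _).symm))) } }
  have hw : ∀ s : Cone (fibDiag φ pS t), hX.lift (cX s) ≫ f = (s.π.app i₀ ≫ pullback.snd _ _) ≫ t := fun s => by
    refine hS.hom_ext fun i => ?_
    show (hX.lift (cX s) ≫ f) ≫ pS.app i = _ ≫ pS.app i
    rw [Category.assoc, ← hcomm i, ← Category.assoc]
    erw [hX.fac (cX s) i]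
    show (s.π.app i ≫ pullback.fst _ _) ≫ φ.app i = _
    rw [Category.assoc, pullback.condition, ← hsnd' s i₀ i]
    simp only [Category.assoc]
  refine ⟨IsLimit.mk (fun s => pullback.lift (hX.lift (cX s)) (s.π.app i₀ ≫ pullback.snd _ _) (hw s))
    (fun s i => ?_) (fun s m hm => ?_)⟩
  · apply pullback.hom_ext
    · simp only [fibCone, pullback.map, Category.assoc, pullback.lift_fst, pullback.lift_fst_assoc]
      exact hX.fac (cX s) i
    · simp only [fibCone, pullback.map, Category.assoc, pullback.lift_snd, Category.comp_id]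
      exact (hsnd' s i₀ i).symm
  · apply pullback.hom_ext
    · refine hX.hom_ext fun i => ?_
      rw [pullback.lift_fst]
      erw [hX.fac (cX s) i]
      show (m ≫ pullback.fst f t) ≫ pX.app i = s.π.app i ≫ pullback.fst _ _
      rw [← hm i]
      simp [fibCone]
    · rw [pullback.lift_snd, ← hm i₀]
      simp [fibCone]

theorem isAffineHom_fibDiag_map [IsAffine T] [∀ {i j} (a : i ⟶ j), IsAffineHom (DX.map a)]
    [∀ {i j} (a : i ⟶ j), IsAffineHom (DS.map a)] {i j : I} (a : i ⟶ j) :
    IsAffineHom ((fibDiag φ pS t).map a) := by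
  let m := pullback.mapDesc (φ.app i) (t ≫ pS.app i) (DS.map a)
  haveI : IsAffineHom m := inferInstance
  let q : pullback (φ.app i ≫ DS.map a) ((t ≫ pS.app i) ≫ DS.map a) ⟶ pullback (φ.app j) (t ≫ pS.app j) :=
    pullback.map _ _ _ _ (DX.map a) (𝟙 T) (𝟙 _) (by rw [Category.comp_id, φ.naturality a])
      (by rw [Category.comp_id, Category.id_comp, Category.assoc, pS_w])
  have hsq : IsPullback q (pullback.fst (φ.app i ≫ DS.map a) ((t ≫ pS.app i) ≫ DS.map a))
      (pullback.fst (φ.app j) (t ≫ pS.app j)) (DX.map a) := by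
    refine IsPullback.of_right ?_ (pullback.lift_fst _ _ _) (IsPullback.of_hasPullback (φ.app j) (t ≫ pS.app j)).flip
    have h1 : q ≫ pullback.snd (φ.app j) (t ≫ pS.app j) = pullback.snd _ _ :=
      (pullback.lift_snd _ _ _).trans (Category.comp_id _)
    rw [h1]
    have h2 := (IsPullback.of_hasPullback (φ.app i ≫ DS.map a) ((t ≫ pS.app i) ≫ DS.map a)).flip
    have e : (t ≫ pS.app i) ≫ DS.map a = t ≫ pS.app j := by rw [Category.assoc, pS_w]
    exact h2.of_iso (Iso.refl _) (Iso.refl _) (Iso.refl _) (Iso.refl _) (by simp) (by simp)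
      (by simpa using e) (by simp [φ.naturality a])
  haveI : IsAffineHom q := MorphismProperty.of_isPullback (P := @IsAffineHom) hsq.flip inferInstance
  have e : (fibDiag φ pS t).map a = m ≫ q := by
    apply pullback.hom_ext <;> simp [fibDiag, m, q, pullback.mapDesc]
  rw [e]
  infer_instance

end diag

theorem exists_factor_residueField {K : Type u} [Field K] {X : Scheme.{u}} (f : Spec (CommRingCat.of K) ⟶ X) :
    ∃ g : Spec (CommRingCat.of K) ⟶ Spec (X.residueField (f (IsLocalRing.closedPoint K))),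
      g ≫ X.fromSpecResidueField _ = f :=
  ⟨Spec.map (X.descResidueField (Scheme.stalkClosedPointTo f)),
    Scheme.descResidueField_stalkClosedPointTo_fromSpecResidueField K X f⟩

/-- Ampleness on the pullback to a field valued point spreads to an affine neighbourhood. -/
theorem exists_ampleOn_nhd_of_qcqs {X Y : Scheme.{u}} (f : X ⟶ Y) [IsProper f] [CompactSpace Y]
    [QuasiSeparatedSpace Y] {L : X.Modules} (hL : PicF.IsInvertible L) {K : Type u} [Field K]
    (t : Spec (CommRingCat.of K) ⟶ Y)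
    (h : CohB1.IsAmple ((Scheme.Modules.pullback (pullback.fst f t)).obj L)) :
    ∃ W : Y.Opens, IsAffineOpen W ∧ t (IsLocalRing.closedPoint K) ∈ W ∧ AmpleOn L (f ⁻¹ᵁ W) := by
  obtain ⟨I, _, _, DX, DS, φ, pX, pS, hX, hS, haff, hobj, hcomm⟩ := NApproxLib.exists_proper_arrow_limit f
  haveI : ∀ {i j : I} (a : i ⟶ j), IsAffineHom (DX.map a) := fun a => (haff _ _ a).1
  haveI : ∀ {i j : I} (a : i ⟶ j), IsAffineHom (DS.map a) := fun a => (haff _ _ a).2
  haveI : ∀ i, IsProper (φ.app i) := fun i => (hobj i).1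
  haveI : ∀ i, CompactSpace (DS.obj i) := fun i => (hobj i).2.1
  haveI : ∀ i, IsLocallyNoetherian (DS.obj i) := fun i => NApproxLib.isLocallyNoetherian_of_isFTZ (hobj i).2.2
  haveI : ∀ i, CompactSpace (DX.obj i) := fun i => QuasiCompact.compactSpace_of_compactSpace (φ.app i)
  haveI : ∀ i, QuasiSeparatedSpace (DX.obj i) := fun i => quasiSeparatedSpace_of_quasiSeparated (φ.app i)
  obtain ⟨i₀, M, hM, ⟨e⟩⟩ := PicLimLib.exists_invertible_stage DX (Cone.mk X pX) hX (L := L) hL
  let D' := fibDiag φ pS t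
  let c' := fibCone φ pS t pX f hcomm
  obtain ⟨hc'⟩ := nonempty_isLimit_fibCone φ pS t pX f hcomm hX hS
  haveI : ∀ i, CompactSpace (D'.obj i) := fun i =>
    QuasiCompact.compactSpace_of_compactSpace (pullback.snd (φ.app i) (t ≫ pS.app i))
  haveI : ∀ i, QuasiSeparatedSpace (D'.obj i) := fun i =>
    quasiSeparatedSpace_of_quasiSeparated (pullback.snd (φ.app i) (t ≫ pS.app i))
  haveI : ∀ (i j : I) (a : i ⟶ j), IsAffineHom (D'.map a) := fun i j a => isAffineHom_fibDiag_map φ pS t a
  have hfst : c'.π.app i₀ ≫ pullback.fst (φ.app i₀) (t ≫ pS.app i₀) = pullback.fst f t ≫ pX.app i₀ :=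
    pullback.lift_fst _ _ _
  have hM' : PicF.IsInvertible ((Scheme.Modules.pullback (pullback.fst (φ.app i₀) (t ≫ pS.app i₀))).obj M) :=
    isInvertible_pullback _ hM
  obtain ⟨k, a, ha⟩ := S9223.result D' c' hc' i₀ _ hM' (isAmple_of_iso
    ((Scheme.Modules.pullback (pullback.fst f t)).mapIso e.symm ≪≫
      FpqcQCoh.cmpIso M (pullback.fst f t) rfl ≪≫ (FpqcQCoh.cmpIso M (c'.π.app i₀) hfst).symm) h)
  let Mk := (Scheme.Modules.pullback (DX.map a)).obj M
  have hMk : PicF.IsInvertible Mk := isInvertible_pullback _ hM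
  have hfst' : D'.map a ≫ pullback.fst (φ.app i₀) (t ≫ pS.app i₀) =
      pullback.fst (φ.app k) (t ≫ pS.app k) ≫ DX.map a := pullback.lift_fst _ _ _
  have ha' : CohB1.IsAmple ((Scheme.Modules.pullback (pullback.fst (φ.app k) (t ≫ pS.app k))).obj Mk) :=
    isAmple_of_iso (FpqcQCoh.cmpIso M (D'.map a) hfst' ≪≫
      (FpqcQCoh.cmpIso M (pullback.fst (φ.app k) (t ≫ pS.app k)) rfl).symm) ha
  -- descend to the fibre of the stage
  let tk := (t ≫ pS.app k) (IsLocalRing.closedPoint K)
  obtain ⟨g, hg⟩ := exists_factor_residueField (t ≫ pS.app k)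
  haveI : Surjective g := ⟨fun z => ⟨IsLocalRing.closedPoint K,
    Subsingleton.elim (α := PrimeSpectrum ((DS.obj k).residueField tk)) _ _⟩⟩
  haveI : Flat g := by
    obtain ⟨ψ, rfl⟩ := Spec.map_surjective g
    exact (HasRingHomProperty.Spec_iff (P := @Flat)).2
      (@Module.Flat.of_free _ _ _ _ ψ.hom.toAlgebra.toModule _)
  have hfib : CohB1.IsAmple ((Scheme.Modules.pullback ((φ.app k).fiberι tk)).obj Mk) := by
    refine isAmple_of_pullback ((φ.app k).fiberToSpecResidueField tk) g (isInvertible_pullback _ hMk) ?_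
    have hsq : IsPullback
        (pullback.fst ((φ.app k).fiberToSpecResidueField tk) g ≫ (φ.app k).fiberι tk)
        (pullback.snd ((φ.app k).fiberToSpecResidueField tk) g) (φ.app k) (t ≫ pS.app k) := by
      rw [← hg]
      exact (IsPullback.of_hasPullback _ g).paste_horiz
        (IsPullback.of_hasPullback (φ.app k) ((DS.obj k).fromSpecResidueField tk))
    let eP := hsq.isoPullback
    exact isAmple_of_iso (FpqcQCoh.cmpIso Mk eP.hom hsq.isoPullback_hom_fst ≪≫
      (FpqcQCoh.cmpIso Mk (pullback.fst ((φ.app k).fiberToSpecResidueField tk) g) rfl).symm)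
      (isAmple_pullback eP.hom ha')
  haveI : AlgebraicGeometry.IsNoetherian (DS.obj k) := { }
  obtain ⟨V, -, htV, hV⟩ := AmpleEmb.exists_ampleOn_nbhd (φ.app k) tk hMk hfib
  -- pull back to the limit
  obtain ⟨_, ⟨W, hW, rfl⟩, hyW, hWV⟩ := Y.isBasis_affineOpens.exists_subset_of_mem_open
    (show t (IsLocalRing.closedPoint K) ∈ (pS.app k ⁻¹ᵁ V : Y.Opens) from htV) (pS.app k ⁻¹ᵁ V).isOpen
  refine ⟨W, hW, hyW, ?_⟩
  haveI : IsAffineHom (pX.app k) := AlgebraicGeometry.isAffineHom_π_app DX (Cone.mk X pX) hX k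
  let U := φ.app k ⁻¹ᵁ V
  haveI : IsAffineHom (pX.app k ∣_ U) := IsZariskiLocalAtTarget.restrict (P := @IsAffineHom) inferInstance U
  have hU : AmpleOn ((Scheme.Modules.pullback (pX.app k)).obj Mk) (pX.app k ⁻¹ᵁ U) :=
    isAmple_of_iso (pullRestr (pX.app k) (pX.app k ⁻¹ᵁ U).ι U.ι (pX.app k ∣_ U)
      (morphismRestrict_ι (pX.app k) U).symm Mk).symm (isAmple_pullback (pX.app k ∣_ U) hV)
  have eL : (Scheme.Modules.pullback (pX.app k)).obj Mk ≅ L :=
    FpqcQCoh.cmpIso M (pX.app k) (pS_w pX a) ≪≫ e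
  refine isAmple_of_iso ((Scheme.Modules.restrictFunctor (f ⁻¹ᵁ W).ι).mapIso eL) (AmpleOn.mono hU ?_ ?_)
  · intro x hx
    show φ.app k (pX.app k x) ∈ V
    rw [← Scheme.Hom.comp_apply, hcomm k, Scheme.Hom.comp_apply]
    exact hWV hx
  · exact f.isCompact_preimage hW.isCompact

/-- Ampleness on a fibre spreads to an affine neighbourhood, for a proper morphism to any scheme. -/
theorem exists_ampleOn_nhd {X Y : Scheme.{u}} (f : X ⟶ Y) [IsProper f] {L : X.Modules}
    (hL : PicF.IsInvertible L) (y : Y)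
    (hy : CohB1.IsAmple ((Scheme.Modules.pullback (f.fiberι y)).obj L)) :
    ∃ W : Y.Opens, IsAffineOpen W ∧ y ∈ W ∧ AmpleOn L (f ⁻¹ᵁ W) := by
  obtain ⟨U, hU, hyU⟩ : ∃ U : Y.Opens, IsAffineOpen U ∧ y ∈ U := by
    obtain ⟨_, ⟨U, hU, rfl⟩, hyU, -⟩ :=
      Y.isBasis_affineOpens.exists_subset_of_mem_open (Set.mem_univ y) isOpen_univ
    exact ⟨U, hU, hyU⟩
  haveI : IsAffine U.toScheme := hU
  let t : Spec (CommRingCat.of (Y.residueField y)) ⟶ U.toScheme :=
    IsOpenImmersion.lift U.ι (Y.fromSpecResidueField y) (by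
      rintro _ ⟨z, rfl⟩
      rw [Scheme.Opens.range_ι]
      exact ((Scheme.fromSpecResidueField_apply y z).symm ▸ hyU :))
  have ht : t ≫ U.ι = Y.fromSpecResidueField y := IsOpenImmersion.lift_fac _ _ _
  haveI : IsProper (f ∣_ U) := IsZariskiLocalAtTarget.restrict (P := @IsProper) inferInstance U
  have hsq : IsPullback (pullback.fst (f ∣_ U) t ≫ (f ⁻¹ᵁ U).ι) (pullback.snd (f ∣_ U) t) f
      (Y.fromSpecResidueField y) := by
    rw [← ht]
    exact (IsPullback.of_hasPullback _ t).paste_horiz (isPullback_morphismRestrict f U).flip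
  obtain ⟨W, hW, hyW, hA⟩ := exists_ampleOn_nhd_of_qcqs (f ∣_ U) (L := L.restrict (f ⁻¹ᵁ U).ι)
    (isInvertible_restrict _ hL) t (isAmple_of_iso
      (FpqcQCoh.cmpIso L hsq.isoPullback.hom hsq.isoPullback_hom_fst ≪≫
        (FpqcQCoh.cmpIso L (pullback.fst (f ∣_ U) t) rfl).symm ≪≫
        (Scheme.Modules.pullback (pullback.fst (f ∣_ U) t)).mapIso (restrictIso _ L).symm)
      (isAmple_pullback hsq.isoPullback.hom hy))
  refine ⟨U.ι ''ᵁ W, hW.image_of_isOpenImmersion U.ι, ⟨_, hyW, ?_⟩, ?_⟩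
  · show (U.ι : U.toScheme → Y) (t (IsLocalRing.closedPoint (Y.residueField y))) = y
    rw [← Scheme.Hom.comp_apply, ht]
    exact Scheme.fromSpecResidueField_apply _ _
  · have h := ampleOn_iff_of_range (L := L) (((f ∣_ U) ⁻¹ᵁ W).ι ≫ (f ⁻¹ᵁ U).ι)
    rw [Scheme.Hom.opensRange_comp, Scheme.Opens.opensRange_ι, image_morphismRestrict_preimage] at h
    exact h.1 (isAmple_of_iso (restrictComp _ _ L).symm hA)

/-- The same, as relative ampleness. -/
theorem exists_isRelAmple_nhd {X Y : Scheme.{u}} (f : X ⟶ Y) [IsProper f] {L : X.Modules}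
    (hL : PicF.IsInvertible L) (y : Y)
    (hy : CohB1.IsAmple ((Scheme.Modules.pullback (f.fiberι y)).obj L)) :
    ∃ V : Y.Opens, y ∈ V ∧ RelAmple.IsRelAmple (f ∣_ V) (L.restrict (f ⁻¹ᵁ V).ι) := by
  obtain ⟨W, hW, hyW, hA⟩ := exists_ampleOn_nhd f hL y hy
  haveI : IsAffine W.toScheme := hW
  exact ⟨W, hyW, (isRelAmple_iff_isAmple (f ∣_ W)).2 hA⟩

/-- Relative ampleness is fibrewise. -/
theorem isRelAmple_of_fibres {X Y : Scheme.{u}} (f : X ⟶ Y) [IsProper f] {L : X.Modules}
    (hL : PicF.IsInvertible L)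
    (h : ∀ y : Y, CohB1.IsAmple ((Scheme.Modules.pullback (f.fiberι y)).obj L)) :
    RelAmple.IsRelAmple f L :=
  isRelAmple_of_locally fun y => exists_ampleOn_nhd f hL y (h y)

theorem isAmple_fiber_of_isRelAmple {X Y : Scheme.{u}} (f : X ⟶ Y) [QuasiCompact f] {L : X.Modules}
    (h : RelAmple.IsRelAmple f L) (y : Y) :
    CohB1.IsAmple ((Scheme.Modules.pullback (f.fiberι y)).obj L) :=
  (isRelAmple_iff_isAmple (pullback.snd f (Y.fromSpecResidueField y))).1 (isRelAmple_baseChange f _ h)

end Groth.Agent.AmpleFibLib
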