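import Groth.Agent.AmpleFibLib.Nbhd
import Groth.Agent.NApproxLib.ProperModel
import Groth.Agent.FPModelLib.ZModelBase
import Groth.Agent.PicLimLib.Descend

/-!
# The locus of ample fibres

For a proper morphism it is open; for a proper finitely presented one it is retrocompact.
-/

set_option autoImplicit false
set_option backward.isDefEq.respectTransparency false
set_option linter.style.haveILetI false

universe u

open CategoryTheory CategoryTheory.Limits AlgebraicGeometry TopologicalSpace Opposite

noncomputable section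

namespace Groth.Agent.AmpleFibLib

open Groth.Agent.AmpleLib

variable {X Y : Scheme.{u}}

/-- The points over which the fibre is polarised. -/
def locus (f : X ⟶ Y) (L : X.Modules) : Set Y :=
  {y | CohB1.IsAmple ((Scheme.Modules.pullback (f.fiberι y)).obj L)}

theorem isOpen_locus (f : X ⟶ Y) [IsProper f] {L : X.Modules} (hL : PicF.IsInvertible L) :
    IsOpen (locus f L) := by
  refine isOpen_iff_forall_mem_open.2 fun y hy => ?_
  obtain ⟨W, hW, hyW, hA⟩ := exists_ampleOn_nhd f hL y hy
  refine ⟨W, fun z hz => ?_, W.isOpen, hyW⟩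
  haveI : IsAffine W.toScheme := hW
  let t : Spec (CommRingCat.of (Y.residueField z)) ⟶ W.toScheme :=
    IsOpenImmersion.lift W.ι (Y.fromSpecResidueField z) (by
      rintro _ ⟨w, rfl⟩
      rw [Scheme.Opens.range_ι]
      exact ((Scheme.fromSpecResidueField_apply z w).symm ▸ hz :))
  have hsq : IsPullback (pullback.fst (f ∣_ W) t ≫ (f ⁻¹ᵁ W).ι) (pullback.snd (f ∣_ W) t) f
      (Y.fromSpecResidueField z) := by
    rw [← show t ≫ W.ι = Y.fromSpecResidueField z from IsOpenImmersion.lift_fac _ _ _]
    exact (IsPullback.of_hasPullback _ t).paste_horiz (isPullback_morphismRestrict f W).flip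
  haveI : IsAffineHom t := inferInstance
  haveI : IsAffineHom (pullback.fst (f ∣_ W) t) := MorphismProperty.pullback_fst _ _ inferInstance
  have h1 := isAmple_pullback (pullback.fst (f ∣_ W) t) hA
  have h2 := isAmple_pullback hsq.isoPullback.inv h1
  refine isAmple_of_iso ?_ h2
  exact (Scheme.Modules.pullback hsq.isoPullback.inv).mapIso
      ((Scheme.Modules.pullback (pullback.fst (f ∣_ W) t)).mapIso (restrictIso _ L) ≪≫
        FpqcQCoh.cmpIso L (pullback.fst (f ∣_ W) t) rfl) ≪≫
    FpqcQCoh.cmpIso L hsq.isoPullback.inv hsq.isoPullback_inv_fst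

/-- Ampleness of a fibre is insensitive to extension of the field. -/
theorem mem_locus_of_isPullback {X' Y' : Scheme.{u}} {q : X' ⟶ X} {f' : X' ⟶ Y'} {f : X ⟶ Y} {π : Y' ⟶ Y}
    (h : IsPullback q f' f π) [QuasiCompact f] {L : X.Modules} (hL : PicF.IsInvertible L) (y : Y') :
    y ∈ locus f' ((Scheme.Modules.pullback q).obj L) ↔ π y ∈ locus f L := by
  have hsq := isPullback_fiberToSpecResidueField_of_isPullback h y
  let j := Spec.map (π.residueFieldMap y)
  haveI : Surjective j := ⟨fun z => ⟨IsLocalRing.closedPoint (Y'.residueField y),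
    Subsingleton.elim (α := PrimeSpectrum (Y.residueField (π y))) _ _⟩⟩
  haveI : Flat j := (HasRingHomProperty.Spec_iff (P := @Flat)).2
    (@Module.Flat.of_free _ _ _ _ (π.residueFieldMap y).hom.toAlgebra.toModule _)
  haveI : IsAffineHom j := inferInstance
  let m := pullback.map f' (Y'.fromSpecResidueField y) f (Y.fromSpecResidueField (π y)) q j π h.w.symm (by simp [j])
  haveI : IsAffineHom m := MorphismProperty.of_isPullback (P := @IsAffineHom) hsq.flip inferInstance
  have hm : m ≫ f.fiberι (π y) = f'.fiberι y ≫ q := pullback.lift_fst _ _ _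
  let θ : (Scheme.Modules.pullback m).obj ((Scheme.Modules.pullback (f.fiberι (π y))).obj L) ≅
      (Scheme.Modules.pullback (f'.fiberι y)).obj ((Scheme.Modules.pullback q).obj L) :=
    FpqcQCoh.cmpIso L m hm ≪≫ (FpqcQCoh.cmpIso L (f'.fiberι y) rfl).symm
  refine ⟨fun hy => ?_, fun hy => isAmple_of_iso θ (isAmple_pullback m hy)⟩
  refine isAmple_of_pullback (f.fiberToSpecResidueField (π y)) j (isInvertible_pullback _ hL) ?_
  exact isAmple_of_iso (FpqcQCoh.cmpIso _ hsq.isoPullback.inv (hsq.isoPullback_inv_fst))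
    (isAmple_pullback hsq.isoPullback.inv (isAmple_of_iso θ.symm hy))

/-- The locus is quasi-compact over an affine base, for finitely presented proper morphisms. -/
theorem isCompact_locus [IsAffine Y] (f : X ⟶ Y) [IsProper f] [LocallyOfFinitePresentation f] {L : X.Modules}
    (hL : PicF.IsInvertible L) : IsCompact (locus f L) := by
  let D := FPModelLib.zSys Γ(Y, ⊤)
  let c := FPModelLib.zCone Γ(Y, ⊤)
  haveI : IsAffine c.pt := inferInstanceAs (IsAffine (Spec Γ(Y, ⊤)))
  haveI : ∀ i, IsAffine (D.obj i) := fun i => FPModelLib.isAffine_zSys _ i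
  haveI : ∀ {i k} (a : i ⟶ k), IsAffineHom (D.map a) := fun a => inferInstance
  let f' : X ⟶ c.pt := f ≫ Y.isoSpec.hom
  haveI : IsProper f' := inferInstanceAs (IsProper (f ≫ Y.isoSpec.hom))
  haveI : LocallyOfFinitePresentation f' := inferInstanceAs (LocallyOfFinitePresentation (f ≫ Y.isoSpec.hom))
  obtain ⟨i, G, g, q, hGc, hGqs, hg, hsq⟩ :=
    NApproxLib.exists_proper_stage_model D c (FPModelLib.isLimitZCone _) f'
  haveI := hGc
  haveI := hGqs
  haveI := hg
  obtain ⟨hV⟩ := FlatStage.nonempty_isLimit_vCone D c i g hsq (FPModelLib.isLimitZCone _)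
  haveI : ∀ {k l : Over i} (a : k ⟶ l), IsAffineHom ((AffLim.baseChange D i g).map a) := fun a => inferInstance
  haveI : ∀ k, CompactSpace ((AffLim.baseChange D i g).obj k) := fun k =>
    QuasiCompact.compactSpace_of_compactSpace (pullback.snd g (D.map k.hom))
  haveI : ∀ k, QuasiSeparatedSpace ((AffLim.baseChange D i g).obj k) := fun k =>
    quasiSeparatedSpace_of_quasiSeparated (pullback.snd g (D.map k.hom))
  obtain ⟨k, M, hM, ⟨e⟩⟩ :=
    PicLimLib.exists_invertible_stage (AffLim.baseChange D i g) (FlatStage.vCone D c i g hsq) hV (L := L) hL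
  let gk : (AffLim.baseChange D i g).obj k ⟶ D.obj k.left := pullback.snd g (D.map k.hom)
  have hY : IsPullback (FlatStage.vMap D c i g hsq k) f' gk (c.π.app k.left) := by
    refine IsPullback.of_right ?_ (FlatStage.vMap_snd D c i g hsq k) (IsPullback.of_hasPullback g (D.map k.hom))
    rw [FlatStage.vMap_fst, c.w]
    exact hsq
  let πY : Y ⟶ D.obj k.left := Y.isoSpec.hom ≫ c.π.app k.left
  have hY' : IsPullback (FlatStage.vMap D c i g hsq k) f gk πY := by
    refine hY.of_iso (Iso.refl _) (Iso.refl _) Y.isoSpec.symm (Iso.refl _) ?_ ?_ ?_ ?_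
    · simp
    · simp [f']
    · simp
    · simp [πY]
  haveI : AlgebraicGeometry.IsNoetherian (D.obj k.left) := by
    haveI := FPModelLib.finiteType_zSys _ k.left
    haveI : IsNoetherianRing (CommRingCat.of k.left.unop.1) := Algebra.FiniteType.isNoetherianRing ℤ k.left.unop.1
    exact inferInstanceAs (AlgebraicGeometry.IsNoetherian (Spec (CommRingCat.of k.left.unop.1)))
  haveI : IsProper gk := MorphismProperty.pullback_snd _ _ hg
  let U : (D.obj k.left).Opens := ⟨locus gk M, isOpen_locus gk hM⟩
  haveI : IsAffineHom πY := inferInstance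
  have he : locus f L = πY ⁻¹ᵁ U := by
    ext y
    show y ∈ locus f L ↔ πY y ∈ locus gk M
    rw [← mem_locus_of_isPullback hY' hM y]
    exact ⟨fun h => isAmple_of_iso ((Scheme.Modules.pullback _).mapIso e.symm) h,
      fun h => isAmple_of_iso ((Scheme.Modules.pullback _).mapIso e) h⟩
  rw [he]
  exact πY.isCompact_preimage (NoetherianSpace.isCompact _)

/-- The complement of the locus is locally constructible. -/
theorem isLocallyConstructible_compl_locus (f : X ⟶ Y) [IsProper f] [LocallyOfFinitePresentation f] {L : X.Modules}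
    (hL : PicF.IsInvertible L) : Topology.IsLocallyConstructible (locus f L)ᶜ := by
  refine Topology.IsLocallyConstructible.of_isOpenCover
    (U := fun V : Y.affineOpens => V.1) (IsOpenCover.mk (iSup_affineOpens_eq_top Y)) fun V => ?_
  haveI : IsAffine V.1.toScheme := V.2
  haveI : IsProper (f ∣_ V.1) := IsZariskiLocalAtTarget.restrict (P := @IsProper) inferInstance _
  haveI : LocallyOfFinitePresentation (f ∣_ V.1) :=
    IsZariskiLocalAtTarget.restrict (P := @LocallyOfFinitePresentation) inferInstance _
  have hc := isCompact_locus (f ∣_ V.1) (L := (Scheme.Modules.pullback (f ⁻¹ᵁ V.1).ι).obj L)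
    (isInvertible_pullback _ hL)
  have ho := isOpen_locus (f ∣_ V.1) (L := (Scheme.Modules.pullback (f ⁻¹ᵁ V.1).ι).obj L)
    (isInvertible_pullback _ hL)
  have he : (Subtype.val : V.1 → Y) ⁻¹' (locus f L)ᶜ =
      (locus (f ∣_ V.1) ((Scheme.Modules.pullback (f ⁻¹ᵁ V.1).ι).obj L))ᶜ := by
    ext y
    exact not_congr (mem_locus_of_isPullback (isPullback_morphismRestrict f V.1).flip hL y).symm
  refine (congrArg Topology.IsLocallyConstructible he).mpr ?_
  exact (hc.isConstructible ho).compl.isLocallyConstructible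

end Groth.Agent.AmpleFibLib
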